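import Cfsg.Agent.Lib.Invol.Order10200960.Steiner

/-!
A simple group of order 10200960 has, on any twenty-three points on which it is transitive, the block of seven
points fixed by the elementary subgroup of order sixteen.
-/

set_option autoImplicit false
set_option linter.style.haveILetI false
set_option linter.unusedSectionVars false

namespace Cfsg.Agent.Invol.M24Ord

open scoped ComplexConjugate
open Cfsg Cfsg.Agent.Block Cfsg.Agent.Char Cfsg.Agent.Invol.M12Ord Cfsg.Agent.Invol.M23Ord

universe u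

variable {G : Type u} [Group G] [Finite G] [IsSimpleGroup G]

/-- The block of seven points for a given action of degree twenty-three. -/
theorem exists_blk (hG : Nat.card G = 10200960) {Ω : Type u} [Fintype Ω] [MulAction G Ω]
    [MulAction.IsPretransitive G Ω] (h23 : Fintype.card Ω = 23) : Nonempty (M23Ord.Blk G Ω) := by
  classical
  haveI : Fact (Nat.Prime 2) := ⟨Nat.prime_two⟩
  haveI : Fact (Nat.Prime 5) := ⟨by norm_num⟩
  haveI : Fact (Nat.Prime 7) := ⟨by norm_num⟩
  haveI : Fact (Nat.Prime 11) := ⟨by norm_num⟩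
  haveI : Fact (Nat.Prime 23) := ⟨by norm_num⟩
  haveI := Fintype.ofFinite G
  obtain ⟨D⟩ := exists_data (G := G) hG
  obtain ⟨C⟩ := D.exists_classes hG
  obtain ⟨B⟩ := C.exists_block16 D hG
  have hfc : ∀ g : G, (Nat.card (MulAction.fixedBy Ω g) : ℤ) = 1 + val22 (orderOf g) (cn g) :=
    C.fix_count D hG h23
  have hEN : B.S.E ≤ B.N := B.E_le
  have hconj : ∀ n ∈ B.N, ∀ e ∈ B.S.E, n⁻¹ * e * n ∈ B.S.E := fun n hn e he => by
    rw [B.hN] at hn
    exact (Subgroup.mem_normalizer_iff''.1 hn e).1 he
  set F := Finset.univ.filter fun x : Ω => ∀ e ∈ B.S.E, e • x = x with hF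
  have hFmem : ∀ x, x ∈ F ↔ ∀ e ∈ B.S.E, e • x = x := fun x => by simp [hF]
  have hstable : ∀ n ∈ B.N, ∀ x ∈ F, n • x ∈ F := fun n hn x hx => (hFmem _).2 fun e he => by
    rw [show e • n • x = n • ((n⁻¹ * e * n) • x) by rw [← mul_smul, ← mul_smul]; congr 1; group,
      (hFmem x).1 hx _ (hconj n hn e he)]
  -- the fixed set is not empty
  obtain ⟨o, hoF⟩ : ∃ o, o ∈ F := by
    have hmod := (IsPGroup.of_card (n := 4) (by rw [B.S.card]; norm_num) :
      IsPGroup 2 B.S.E).card_modEq_card_fixedPoints Ω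
    rw [Nat.card_eq_fintype_card, h23] at hmod
    by_contra hno
    push Not at hno
    have h0 : Nat.card (MulAction.fixedPoints B.S.E Ω) = 0 := by
      rw [Nat.card_eq_zero]
      exact Or.inl ⟨fun x => hno x.1 ((hFmem _).2 fun e he => x.2 ⟨e, he⟩)⟩
    rw [h0] at hmod
    exact absurd hmod (by decide)
  -- the normalizer does not fix the point
  have hnotfix : ¬ ∀ n ∈ B.N, n • o = o := by
    intro hle
    obtain ⟨u, z, hu, -, hut, -⟩ := C.exists_partners D hG B.S.ht
    have hCN : Subgroup.centralizer ({B.t} : Set G) ≤ B.N := B.hN ▸ B.S.norm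
    have hmem := hle _ (mul_mem (hCN (Subgroup.mem_centralizer_singleton_iff.2 hut.eq))
      (hEN B.S.t_mem))
    have h14 : orderOf (u * B.t) = 14 := by
      rw [hut.orderOf_mul_eq_mul_orderOf_of_coprime (by rw [hu, B.S.ht]; norm_num), hu, B.S.ht]
    have h := hfc (u * B.t)
    rw [h14, show val22 14 (cn (u * B.t)) = -1 from rfl] at h
    have hz : Nat.card (MulAction.fixedBy Ω (u * B.t)) = 0 := by omega
    rw [Nat.card_eq_zero] at hz
    rcases hz with hz | hz
    · exact hz.false ⟨o, hmem⟩
    · exact hz.not_finite Subtype.finite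
  let θ : B.N →* Equiv.Perm F := MonoidHom.mk' (fun n =>
    { toFun := fun x => ⟨(n : G) • (x : Ω), hstable n n.2 x x.2⟩
      invFun := fun x => ⟨(n : G)⁻¹ • (x : Ω), hstable _ (inv_mem n.2) x x.2⟩
      left_inv := fun x => Subtype.ext (inv_smul_smul _ _)
      right_inv := fun x => Subtype.ext (smul_inv_smul _ _) })
    fun a b => Equiv.ext fun x => Subtype.ext (mul_smul (a : G) b _)
  have hθ : ∀ (n : B.N) (x : F), ((θ n x : F) : Ω) = (n : G) • (x : Ω) := fun _ _ => rfl
  have hker : θ.ker = B.S.E.subgroupOf B.N := by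
    have hle : B.S.E.subgroupOf B.N ≤ θ.ker := fun n hn => MonoidHom.mem_ker.2 (Equiv.ext fun x => Subtype.ext (by
      rw [hθ]
      exact (hFmem _).1 x.2 _ hn))
    refine le_antisymm ?_ hle
    haveI : IsSimpleGroup (alternatingGroup (Fin 7)) :=
      alternatingGroup.isSimpleGroup (by simp)
    have himg : (θ.ker.map B.φ).Normal := Subgroup.Normal.map θ.normal_ker B.φ B.surj
    rcases himg.eq_bot_or_eq_top with h | h
    · rw [Subgroup.map_eq_bot_iff, B.ker] at h
      exact h
    · exfalso
      refine hnotfix fun n hn => ?_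
      obtain ⟨m, hm, hmn⟩ := (h ▸ Subgroup.mem_top (B.φ ⟨n, hn⟩) : B.φ ⟨n, hn⟩ ∈ θ.ker.map B.φ)
      have hk : (⟨n, hn⟩ : B.N) * m⁻¹ ∈ B.φ.ker := by
        rw [MonoidHom.mem_ker, map_mul, map_inv, hmn, mul_inv_cancel]
      rw [B.ker] at hk
      have h' := mul_mem (hle hk) hm
      rw [inv_mul_cancel_right] at h'
      exact congrArg Subtype.val (Equiv.ext_iff.1 (MonoidHom.mem_ker.1 h') ⟨o, hoF⟩)
  have hr : Nat.card θ.range = 2520 := by
    have h := Subgroup.card_mul_index θ.ker
    rw [Subgroup.index_ker, hker, Nat.card_congr (Subgroup.subgroupOfEquivOfLe hEN).toEquiv, B.S.card, B.card] at h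
    omega
  have hF7' : 7 ≤ F.card := by
    have hd := Subgroup.card_subgroup_dvd_card θ.range
    rw [hr, Nat.card_perm, Nat.card_eq_fintype_card (α := F), Fintype.card_coe] at hd
    by_contra hlt
    have h1 := Nat.le_of_dvd (Nat.factorial_pos _) hd
    have h2 : Nat.factorial F.card ≤ 720 := Nat.factorial_le (show F.card ≤ 6 by omega)
    omega
  -- counting incidences with the subgroup of order sixteen
  set U := Finset.univ.filter fun g : G => g ∈ B.S.E with hU
  have hU16 : U.card = 16 := by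
    rw [hU, ← Fintype.card_subtype, ← Nat.card_eq_fintype_card]; exact B.S.card
  have h128 : ∑ x : Ω, (U.filter fun e => e • x = x).card = 128 := by
    have h7 : ∀ e ∈ U.erase 1, ∑ x : Ω, (if e • x = x then 1 else 0) = 7 := by
      intro e he
      obtain ⟨he1, he⟩ := Finset.mem_erase.1 he
      haveI : Fact (Nat.Prime 2) := ⟨Nat.prime_two⟩
      have ho2 : orderOf e = 2 := orderOf_eq_prime (by rw [pow_two]; exact B.S.sq e (Finset.mem_filter.1 he).2) he1
      have h := hfc e
      rw [ho2, show val22 2 (cn e) = 6 from rfl, Nat.card_eq_fintype_card] at h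
      rw [← Finset.card_filter, ← Fintype.card_subtype]
      have : Fintype.card {x : Ω // e • x = x} = Fintype.card (MulAction.fixedBy (Ω) e) :=
        Fintype.card_congr (Equiv.subtypeEquivRight fun x => Iff.rfl)
      omega
    rw [Finset.sum_congr rfl fun x _ => Finset.card_filter _ _, Finset.sum_comm,
      ← Finset.add_sum_erase _ _ (show (1 : G) ∈ U by simp [hU, one_mem]), Finset.sum_congr rfl h7,
      Finset.sum_const, Finset.card_erase_of_mem (show (1 : G) ∈ U by simp [hU, one_mem]), hU16]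
    simp [h23]
  have hFx : ∀ x ∈ F, (U.filter fun e => e • x = x).card = 16 := fun x hx => by
    rw [Finset.filter_true_of_mem fun e he => (hFmem x).1 hx e (Finset.mem_filter.1 he).2, hU16]
  have hone : ∀ x : Ω, 1 ≤ (U.filter fun e => e • x = x).card := fun x =>
    Finset.card_pos.2 ⟨1, by simp [hU, one_mem]⟩
  rw [← Finset.sum_add_sum_compl F, Finset.sum_congr rfl hFx, Finset.sum_const, smul_eq_mul] at h128
  have hlow : Fᶜ.card ≤ ∑ x ∈ Fᶜ, (U.filter fun e => e • x = x).card := by
    rw [Finset.card_eq_sum_ones]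
    exact Finset.sum_le_sum fun x _ => hone x
  have hcompl : Fᶜ.card = 23 - F.card := by rw [Finset.card_compl, h23]
  have hF7 : F.card = 7 := by omega
  have hfree : ∀ x ∉ F, ∀ e ∈ B.S.E, e • x = x → e = 1 := by
    intro x hx e he hex
    by_contra he1
    have h2 : 2 ≤ (U.filter fun e => e • x = x).card :=
      Finset.one_lt_card.2 ⟨e, by simp [hU, he, hex], 1, by simp [hU, one_mem], he1⟩
    have hxc : x ∈ Fᶜ := Finset.mem_compl.2 hx
    rw [← Finset.add_sum_erase _ _ hxc] at h128
    have hl : (Fᶜ.erase x).card ≤ ∑ y ∈ Fᶜ.erase x, (U.filter fun e => e • y = y).card := by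
      rw [Finset.card_eq_sum_ones]
      exact Finset.sum_le_sum fun y _ => hone y
    rw [Finset.card_erase_of_mem hxc] at hl
    omega
  have hreg : ∀ x y, x ∉ F → y ∉ F → ∃ e ∈ B.S.E, e • x = y := by
    intro x y hx hy
    have himg : U.image (fun e => e • x) = Fᶜ := by
      refine Finset.eq_of_subset_of_card_le (fun w hw => ?_) ?_
      · obtain ⟨e, he, rfl⟩ := Finset.mem_image.1 hw
        have he' := (Finset.mem_filter.1 he).2
        refine Finset.mem_compl.2 fun h => hx ?_
        rw [show x = e⁻¹ • e • x by rw [inv_smul_smul], (hFmem _).1 h e⁻¹ (inv_mem he')]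
        exact h
      · rw [Finset.card_image_of_injOn, hU16, hcompl, hF7]
        intro a ha b hb hab
        have ha' := (Finset.mem_filter.1 (Finset.mem_coe.1 ha)).2
        have hb' := (Finset.mem_filter.1 (Finset.mem_coe.1 hb)).2
        have := hfree x hx (b⁻¹ * a) (mul_mem (inv_mem hb') ha') (by
          rw [mul_smul, show a • x = b • x from hab, inv_smul_smul])
        exact (inv_mul_eq_one.1 this).symm
    obtain ⟨e, he, rfl⟩ := Finset.mem_image.1 (himg ▸ Finset.mem_compl.2 hy : y ∈ U.image (fun e => e • x))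
    exact ⟨e, (Finset.mem_filter.1 he).2, rfl⟩
  have hrange : θ.range = alternatingGroup F := by
    refine Equiv.Perm.eq_alternatingGroup_of_index_eq_two ?_
    have h2 := Subgroup.card_mul_index θ.range
    rw [Nat.card_perm, Nat.card_eq_fintype_card (α := F), Fintype.card_coe, hF7] at h2
    rw [show Nat.factorial 7 = 5040 from rfl, hr] at h2
    omega
  have hmulti : ∀ k, k ≤ 5 → ∀ p q : Fin k ↪ Ω, (∀ i, p i ∈ F) → (∀ i, q i ∈ F) →
      ∃ n ∈ B.N, n • p = q := by
    intro k hk p q hp hq
    haveI := alternatingGroup.isMultiplyPretransitive F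
    haveI : MulAction.IsMultiplyPretransitive (alternatingGroup F) F k :=
      MulAction.isMultiplyPretransitive_of_le (n := Nat.card F - 2) (by simp [hF7]; omega) (by omega)
    let p' : Fin k ↪ F := ⟨fun i => ⟨p i, hp i⟩, fun i j h => p.injective (congrArg Subtype.val h)⟩
    let q' : Fin k ↪ F := ⟨fun i => ⟨q i, hq i⟩, fun i j h => q.injective (congrArg Subtype.val h)⟩
    obtain ⟨σ, hσ⟩ := MulAction.exists_smul_eq (alternatingGroup F) p' q'
    obtain ⟨n, hn⟩ := (hrange.symm ▸ σ.2 : (σ : Equiv.Perm F) ∈ θ.range)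
    refine ⟨n, n.2, Function.Embedding.ext fun i => ?_⟩
    have := congrArg Subtype.val (DFunLike.congr_fun hσ i)
    change ((σ : Equiv.Perm F) (p' i) : Ω) = q i at this
    rw [← hn, hθ] at this
    exact this
  have hfix : ∀ (g : G) (m : ℕ) (v : ℤ), orderOf g = m → (∀ c, val22 m c = v) →
      (Nat.card (MulAction.fixedBy Ω g) : ℤ) = 1 + v := fun g m v hg hv => by
    rw [hfc g, hg, hv]
  exact ⟨⟨B, inferInstance, h23, F, hF7, hFmem, hreg, hstable, hmulti,
    fun g hg => by have := hfix g 5 2 hg (fun _ => rfl); omega,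
    fun g hg => by have := hfix g 7 1 hg (fun _ => rfl); omega,
    fun g hg => by have := hfix g 11 0 hg (fun _ => rfl); omega⟩⟩

end Cfsg.Agent.Invol.M24Ord
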