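import Mathlib.GroupTheory.Sylow
import Mathlib.GroupTheory.Subgroup.Simple
import Mathlib.Algebra.Group.Conj

/-!
Order 244823040: the local data which lead from a character of degree twenty-three to the Mathieu group.
-/

set_option autoImplicit false

namespace Cfsg.Agent.Invol.M24Ord

/-- The local data at the primes twenty-three, eleven and five. -/
structure Local (G : Type*) [Group G] [Finite G] : Prop where
  card : Nat.card G = 244823040
  cent23 : ∀ z : G, orderOf z = 23 → Nat.card (Subgroup.centralizer ({z} : Set G)) = 23
  norm23 : ∀ P : Sylow 23 G, Nat.card (Subgroup.normalizer ((P : Subgroup G) : Set G)) = 253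
  cent11 : ∀ x : G, orderOf x = 11 → Nat.card (Subgroup.centralizer ({x} : Set G)) = 11
  norm11 : ∀ P : Sylow 11 G, Nat.card (Subgroup.normalizer ((P : Subgroup G) : Set G)) = 110
  conj5 : ∀ y : G, orderOf y = 5 → IsConj y (y ^ 2)

end Cfsg.Agent.Invol.M24Ord
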