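import Cfsg.Agent.Lib.Invol.Order244823040.Defs
import Cfsg.Agent.Lib.Invol.Order10200960.FixedSpace
import Cfsg.Agent.Lib.Block.ExtraThree.Orbits
import Cfsg.Agent.Lib.Block.Separated
import Cfsg.Agent.Lib.Char.Galois
import Cfsg.Agent.Lib.Char.Complete

/-!
A character of degree twenty-three fixes a line of a Frobenius group of order 253 and all of the fixed space
of an element of order eleven under the elements of order five normalizing it: a proper subgroup of order
divisible by 1265.
-/

set_option autoImplicit false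
set_option linter.style.haveILetI false
set_option linter.unusedSectionVars false

namespace Cfsg.Agent.Invol.M24Ord

open scoped ComplexConjugate Pointwise
open Cfsg Cfsg.Agent.Block Cfsg.Agent.Char Cfsg.Agent.Invol.M23Ord

universe u

variable {G : Type u} [Group G] [Finite G]

/-- An element of prime order is conjugate to all its non-trivial powers when its normalizer is large enough. -/
theorem conj_pow_of_card {p c : ℕ} [hp : Fact p.Prime] {x : G} (hx : orderOf x = p)
    (hc : Nat.card (Subgroup.centralizer ({x} : Set G)) = p * c)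
    (hn : Nat.card (Subgroup.normalizer ((Subgroup.zpowers x : Subgroup G) : Set G)) = p * c * (p - 1)) :
    ∀ k : ℕ, k.Coprime p → IsConj x (x ^ k) := by
  classical
  cases nonempty_fintype G
  intro k hk
  set Z := Subgroup.zpowers x with hZ
  set N := Subgroup.normalizer (Z : Set G) with hN
  have hcn : Subgroup.centralizer ({x} : Set G) ≤ N := fun g hg => by
    have hgx : g * x = x * g := Subgroup.mem_centralizer_singleton_iff.1 hg
    refine Subgroup.mem_normalizer_iff.2 fun h => ?_
    constructor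
    · intro hh
      obtain ⟨i, rfl⟩ := Subgroup.mem_zpowers_iff.1 hh
      rw [(Commute.zpow_right (show Commute g x from hgx) i).eq, mul_inv_cancel_right]
      exact Subgroup.zpow_mem _ (Subgroup.mem_zpowers x) i
    · intro hh
      obtain ⟨i, hi⟩ := Subgroup.mem_zpowers_iff.1 hh
      have : h = g⁻¹ * x ^ i * g := by rw [hi]; group
      rw [this, mul_assoc, ← (Commute.zpow_right (show Commute g x from hgx) i).eq, inv_mul_cancel_left]
      exact Subgroup.zpow_mem _ (Subgroup.mem_zpowers x) i
  have hh := Cfsg.Agent.Block.ExtraThree.card_conj_image N x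
  have hinf : (N ⊓ Subgroup.centralizer ({x} : Set G) : Subgroup G) =
      Subgroup.centralizer ({x} : Set G) := inf_eq_right.2 hcn
  rw [hinf, hc, hn, mul_comm (p * c) (p - 1)] at hh
  have hcard := Nat.eq_of_mul_eq_mul_right (hc ▸ Nat.card_pos) hh
  set S := (Finset.univ.filter fun n : G => n ∈ N).image fun n => n * x * n⁻¹ with hS
  set U := (Finset.univ.filter fun w : G => w ∈ Z).erase 1 with hU
  have hUc : U.card = p - 1 := by
    rw [hU, Finset.card_erase_of_mem (by simp),
      show (Finset.univ.filter fun w : G => w ∈ Z).card = p by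
        rw [← hx, ← Nat.card_zpowers, Nat.card_eq_fintype_card]
        exact (Fintype.card_subtype _).symm]
  have hsub : S ⊆ U := by
    intro w hw
    obtain ⟨n, hn', rfl⟩ := Finset.mem_image.1 hw
    refine Finset.mem_erase.2 ⟨fun e => ?_, Finset.mem_filter.2 ⟨Finset.mem_univ _,
      (Subgroup.mem_normalizer_iff.1 (Finset.mem_filter.1 hn').2 x).1 (Subgroup.mem_zpowers x)⟩⟩
    rw [conj_eq_one_iff] at e
    rw [e, orderOf_one] at hx
    exact hp.out.ne_one hx.symm
  have hkU : x ^ k ∈ U := by
    refine Finset.mem_erase.2 ⟨fun e => ?_, Finset.mem_filter.2 ⟨Finset.mem_univ _,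
      Subgroup.pow_mem _ (Subgroup.mem_zpowers x) k⟩⟩
    have h1 : p ∣ k := hx ▸ orderOf_dvd_of_pow_eq_one e
    exact hp.out.not_dvd_one (hk.gcd_eq_one ▸ Nat.dvd_gcd h1 dvd_rfl)
  rw [← Finset.eq_of_subset_of_card_le hsub (by rw [hcard, hUc])] at hkU
  obtain ⟨n, -, hn'⟩ := Finset.mem_image.1 hkU
  exact isConj_iff.2 ⟨n, hn'⟩

/-- No element has order `p * q` when the centralizers of the elements of order `p` have order `p`. -/
theorem orderOf_cases {p q : ℕ} [hp : Fact p.Prime] [hq : Fact q.Prime] (hpq : p ≠ q)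
    (hC : ∀ g : G, orderOf g = p → Nat.card (Subgroup.centralizer ({g} : Set G)) = p) {w : G}
    (hw : orderOf w ∣ p * q) : w = 1 ∨ orderOf w = p ∨ orderOf w = q := by
  obtain ⟨d₁, d₂, hd₁, hd₂, he⟩ := (Nat.dvd_mul.1 hw)
  rcases (Nat.dvd_prime hp.out).1 hd₁ with e1 | e1 <;> rcases (Nat.dvd_prime hq.out).1 hd₂ with e2 | e2 <;>
    rw [e1, e2] at he
  · exact .inl (orderOf_eq_one_iff.1 (by rw [← he, one_mul]))
  · exact .inr (.inr (by rw [← he, one_mul]))
  · exact .inr (.inl (by rw [← he, mul_one]))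
  · exfalso
    have hg : orderOf (w ^ q) = p := by
      rw [orderOf_pow' _ hq.out.ne_zero, ← he, Nat.gcd_eq_right (dvd_mul_left q p),
        Nat.mul_div_cancel _ hq.out.pos]
    have hmem : w ∈ Subgroup.centralizer ({w ^ q} : Set G) :=
      Subgroup.mem_centralizer_singleton_iff.2 ((Commute.refl w).pow_right q).eq
    have hd := Subgroup.orderOf_dvd_natCard _ hmem
    rw [hC _ hg, ← he] at hd
    have := Nat.le_of_dvd hp.out.pos hd
    have := hq.out.two_le
    have := hp.out.pos
    nlinarith

/-- The character sum over a subgroup of order `p * q` with a normal subgroup of order `p`. -/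
theorem sum_pair {p q : ℕ} [hp : Fact p.Prime] [hq : Fact q.Prime] (hpq : p ≠ q)
    (hC : ∀ g : G, orderOf g = p → Nat.card (Subgroup.centralizer ({g} : Set G)) = p)
    {x y : G} (hx : orderOf x = p) (hy : orderOf y = q)
    (hn : y ∈ Subgroup.normalizer ((Subgroup.zpowers x : Subgroup G) : Set G))
    (f : G → ℂ) {a b : ℂ} (ha : ∀ g : G, orderOf g = p → f g = a) (hb : ∀ g : G, orderOf g = q → f g = b) :
    ∃ R : Subgroup G, x ∈ R ∧ y ∈ R ∧ Nat.card R = p * q ∧
      ∀ [Fintype R], ∑ h : R, f h = f 1 + ((p - 1 : ℕ) : ℂ) * a + ((p * (q - 1) : ℕ) : ℂ) * b := by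
  classical
  haveI : NeZero p := ⟨hp.out.ne_zero⟩
  haveI : NeZero q := ⟨hq.out.ne_zero⟩
  set R := Subgroup.zpowers x ⊔ Subgroup.zpowers y with hR
  have hle : Subgroup.zpowers y ≤ Subgroup.normalizer ((Subgroup.zpowers x : Subgroup G) : Set G) :=
    Subgroup.zpowers_le.2 hn
  have hxR : x ∈ R := Subgroup.mem_sup_left (Subgroup.mem_zpowers x)
  have hyR : y ∈ R := Subgroup.mem_sup_right (Subgroup.mem_zpowers y)
  let φ : Fin p × Fin q → R := fun ij =>
    ⟨x ^ (ij.1 : ℕ) * y ^ (ij.2 : ℕ), mul_mem (pow_mem hxR _) (pow_mem hyR _)⟩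
  have hinter : ∀ w, w ∈ Subgroup.zpowers x → w ∈ Subgroup.zpowers y → w = 1 := by
    intro w hwx hwy
    rw [← orderOf_eq_one_iff]
    have h1 := Subgroup.orderOf_dvd_natCard _ hwx
    have h2 := Subgroup.orderOf_dvd_natCard _ hwy
    rw [Nat.card_zpowers, hx] at h1
    rw [Nat.card_zpowers, hy] at h2
    exact Nat.eq_one_of_dvd_coprimes ((Nat.coprime_primes hp.out hq.out).2 hpq) h1 h2
  have hφ : Function.Bijective φ := by
    constructor
    · rintro ⟨i, j⟩ ⟨i', j'⟩ e
      have e' : x ^ (i : ℕ) * y ^ (j : ℕ) = x ^ (i' : ℕ) * y ^ (j' : ℕ) := congrArg Subtype.val e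
      have h1 : (x ^ (i' : ℕ))⁻¹ * x ^ (i : ℕ) = y ^ (j' : ℕ) * (y ^ (j : ℕ))⁻¹ := by
        rw [eq_mul_inv_iff_mul_eq, mul_assoc, e', inv_mul_cancel_left]
      have h2 := hinter _ (mul_mem (inv_mem (pow_mem (Subgroup.mem_zpowers x) _))
        (pow_mem (Subgroup.mem_zpowers x) _)) (h1 ▸ mul_mem (pow_mem (Subgroup.mem_zpowers y) _)
          (inv_mem (pow_mem (Subgroup.mem_zpowers y) _)))
      have hi : (i : ℕ) = (i' : ℕ) := pow_injOn_Iio_orderOf (by simp [hx]) (by simp [hx])
        (inv_mul_eq_one.1 h2).symm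
      rw [h2] at h1
      have hj : (j : ℕ) = (j' : ℕ) := pow_injOn_Iio_orderOf (by simp [hy]) (by simp [hy])
        (mul_inv_eq_one.1 h1.symm).symm
      exact Prod.ext (Fin.ext hi) (Fin.ext hj)
    · rintro ⟨w, hw⟩
      have hw' : w ∈ (Subgroup.zpowers x : Set G) * (Subgroup.zpowers y : Set G) := by
        rw [← Subgroup.coe_mul_of_right_le_normalizer_left _ _ hle]
        exact hw
      obtain ⟨a', ha', b', hb', rfl⟩ := Set.mem_mul.1 hw'
      obtain ⟨i, hi⟩ : ∃ i : ℕ, x ^ i = a' := (mem_powers_iff_mem_zpowers.2 ha')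
      obtain ⟨j, hj⟩ : ∃ j : ℕ, y ^ j = b' := (mem_powers_iff_mem_zpowers.2 hb')
      refine ⟨(⟨i % p, Nat.mod_lt _ hp.out.pos⟩, ⟨j % q, Nat.mod_lt _ hq.out.pos⟩), Subtype.ext ?_⟩
      show x ^ (i % p) * y ^ (j % q) = a' * b'
      rw [← hi, ← hj]
      conv_rhs => rw [← pow_mod_orderOf, hx, ← pow_mod_orderOf y, hy]
  have hcard : Nat.card R = p * q := by
    rw [← Nat.card_congr (Equiv.ofBijective φ hφ), Nat.card_prod, Nat.card_fin, Nat.card_fin]
  refine ⟨R, hxR, hyR, hcard, fun {_} => ?_⟩
  have hval : ∀ ij : Fin p × Fin q, f (φ ij : G) =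
      if ij.2 = 0 then (if ij.1 = 0 then f 1 else a) else b := by
    rintro ⟨i, j⟩
    show f (x ^ (i : ℕ) * y ^ (j : ℕ)) = _
    by_cases hj : j = 0
    · subst hj
      rw [if_pos rfl, Fin.val_zero, pow_zero, mul_one]
      by_cases hi : i = 0
      · subst hi; rw [if_pos rfl, Fin.val_zero, pow_zero]
      · rw [if_neg hi]
        refine ha _ ?_
        rw [orderOf_pow, hx, Nat.Coprime.gcd_eq_one, Nat.div_one]
        exact (hp.out.coprime_iff_not_dvd).2 fun hd => hi (Fin.ext (Nat.eq_zero_of_dvd_of_lt hd i.2))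
    · rw [if_neg hj]
      refine hb _ ?_
      have hd : orderOf (x ^ (i : ℕ) * y ^ (j : ℕ)) ∣ p * q := hcard ▸
        Subgroup.orderOf_dvd_natCard R (φ (i, j)).2
      rcases orderOf_cases hpq hC hd with e | e | e
      · exfalso
        refine hj (Fin.ext ?_)
        refine pow_injOn_Iio_orderOf (x := y) (by simp [hy]) (by simp [hy, hq.out.pos]) ?_
        show y ^ (j : ℕ) = y ^ ((0 : Fin q) : ℕ)
        rw [Fin.val_zero, pow_zero]
        exact hinter _ ((eq_inv_of_mul_eq_one_right e) ▸ inv_mem (pow_mem (Subgroup.mem_zpowers x) _))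
          (pow_mem (Subgroup.mem_zpowers y) _)
      · exfalso
        -- an element of order `p` lies in the normal subgroup
        refine hj (Fin.ext ?_)
        refine pow_injOn_Iio_orderOf (x := y) (by simp [hy]) (by simp [hy, hq.out.pos]) ?_
        show y ^ (j : ℕ) = y ^ ((0 : Fin q) : ℕ)
        rw [Fin.val_zero, pow_zero]
        set w := x ^ (i : ℕ) * y ^ (j : ℕ) with hw
        have hwR : Subgroup.zpowers w ≤ Subgroup.normalizer ((Subgroup.zpowers x : Subgroup G) : Set G) :=
          Subgroup.zpowers_le.2 (mul_mem (pow_mem (Subgroup.le_normalizer (Subgroup.mem_zpowers x)) _)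
            (pow_mem hn _))
        have hP : IsPGroup p (Subgroup.zpowers w ⊔ Subgroup.zpowers x : Subgroup G) :=
          (IsPGroup.of_card (n := 1) (by rw [Nat.card_zpowers, e, pow_one])).to_sup_of_normal_right'
            (IsPGroup.of_card (n := 1) (by rw [Nat.card_zpowers, hx, pow_one])) hwR
        obtain ⟨n, hn'⟩ := IsPGroup.iff_card.1 hP
        have hsle : Subgroup.zpowers w ⊔ Subgroup.zpowers x ≤ R :=
          sup_le (Subgroup.zpowers_le.2 (φ (i, j)).2) le_sup_left
        have hd' := Subgroup.card_dvd_of_le hsle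
        rw [hn', hcard] at hd'
        have hn1 : n ≤ 1 := by
          by_contra hlt
          have h2 : p * p ∣ p * q :=
            (dvd_trans (by rw [← pow_two]; exact pow_dvd_pow p (by omega)) hd')
          exact hpq ((Nat.prime_dvd_prime_iff_eq hp.out hq.out).1 (Nat.dvd_of_mul_dvd_mul_left hp.out.pos h2))
        have heq : Subgroup.zpowers x = Subgroup.zpowers w ⊔ Subgroup.zpowers x := by
          refine Subgroup.eq_of_le_of_card_ge le_sup_right ?_
          rw [hn', Nat.card_zpowers, hx]
          calc p ^ n ≤ p ^ 1 := Nat.pow_le_pow_right hp.out.pos hn1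
            _ = p := pow_one p
        have hwx : w ∈ Subgroup.zpowers x := heq ▸ Subgroup.mem_sup_left (Subgroup.mem_zpowers w)
        have hyx : y ^ (j : ℕ) ∈ Subgroup.zpowers x := by
          have := mul_mem (inv_mem (pow_mem (Subgroup.mem_zpowers x) (i : ℕ))) hwx
          rwa [hw, inv_mul_cancel_left] at this
        exact hinter _ hyx (pow_mem (Subgroup.mem_zpowers y) _)
      · exact e
  rw [← Equiv.sum_comp (Equiv.ofBijective φ hφ) (fun h : R => f h)]
  show ∑ ij, f (φ ij : G) = _
  have inner : ∀ j : Fin q, ∑ i : Fin p, (if j = 0 then (if i = 0 then f 1 else a) else b) =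
      if j = 0 then f 1 + ((p - 1 : ℕ) : ℂ) * a else (p : ℂ) * b := by
    intro j
    by_cases hj : j = 0
    · rw [if_pos hj, Finset.sum_congr rfl fun i _ => if_pos hj,
        ← Finset.add_sum_erase _ _ (Finset.mem_univ (0 : Fin p)), if_pos rfl,
        Finset.sum_congr rfl fun i hi => if_neg (Finset.ne_of_mem_erase hi),
        Finset.sum_const, Finset.card_erase_of_mem (Finset.mem_univ _), Finset.card_univ, Fintype.card_fin,
        nsmul_eq_mul]
    · rw [if_neg hj, Finset.sum_congr rfl fun i _ => if_neg hj, Finset.sum_const, Finset.card_univ,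
        Fintype.card_fin, nsmul_eq_mul]
  rw [Finset.sum_congr rfl fun ij _ => hval ij, Fintype.sum_prod_type_right,
    Finset.sum_congr rfl fun j _ => inner j,
    ← Finset.add_sum_erase _ _ (Finset.mem_univ (0 : Fin q)), if_pos rfl,
    Finset.sum_congr rfl fun j hj => if_neg (Finset.ne_of_mem_erase hj),
    Finset.sum_const, Finset.card_erase_of_mem (Finset.mem_univ _), Finset.card_univ, Fintype.card_fin,
    nsmul_eq_mul]
  push_cast
  ring

end Cfsg.Agent.Invol.M24Ord
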