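import Cfsg.Agent.Lib.Invol.Order244823040.Degree
import Cfsg.Agent.Lib.Grp.MathieuOrder.Count

/-!
A character of degree twenty-three gives a subgroup of index twenty-four.
-/

set_option autoImplicit false
set_option linter.style.haveILetI false
set_option linter.unusedSectionVars false

namespace Cfsg.Agent.Invol.M24Ord

open scoped ComplexConjugate Pointwise
open Cfsg Cfsg.Agent.Block Cfsg.Agent.Char Cfsg.Agent.Invol.M23Ord

universe u

variable {G : Type u} [Group G] [Finite G]

theorem index_key : ∀ a : Fin 11, ∀ b : Fin 4, ∀ c : Fin 2, (2 ^ (a : ℕ) * 3 ^ (b : ℕ) * 7 ^ (c : ℕ)) % 23 = 1 →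
    ((2 ^ (a : ℕ) * 3 ^ (b : ℕ) * 7 ^ (c : ℕ)) % 11 = 1 ∨
      (2 ^ (a : ℕ) * 3 ^ (b : ℕ) * 7 ^ (c : ℕ)) % 11 = 2) →
    2 ^ (a : ℕ) * 3 ^ (b : ℕ) * 7 ^ (c : ℕ) = 1 ∨ 2 ^ (a : ℕ) * 3 ^ (b : ℕ) * 7 ^ (c : ℕ) = 24 := by decide +kernel

theorem fact_of_card (hG : Nat.card G = 244823040) {p : ℕ} [hp : Fact p.Prime] {m : ℕ}
    (hm : 244823040 = p * m) (hpm : ¬ p ∣ m) : (Nat.card G).factorization p = 1 := by
  rw [hG, hm]
  exact Cfsg.Agent.Grp.MathieuOrder.fact_one hpm

theorem sylow_card (hG : Nat.card G = 244823040) {p : ℕ} [hp : Fact p.Prime] {m : ℕ}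
    (hm : 244823040 = p * m) (hpm : ¬ p ∣ m) (P : Sylow p G) : Nat.card (P : Subgroup G) = p := by
  rw [P.card_eq_multiplicity, fact_of_card hG hm hpm, pow_one]

theorem zpowers_sylow (hG : Nat.card G = 244823040) {p : ℕ} [hp : Fact p.Prime] {m : ℕ}
    (hm : 244823040 = p * m) (hpm : ¬ p ∣ m) {x : G} (hx : orderOf x = p) :
    ∃ P : Sylow p G, (P : Subgroup G) = Subgroup.zpowers x := by
  have hp' : IsPGroup p (Subgroup.zpowers x) :=
    IsPGroup.of_card (n := 1) (by rw [Nat.card_zpowers, hx, pow_one])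
  obtain ⟨P, hP⟩ := hp'.exists_le_sylow
  exact ⟨P, (Subgroup.eq_of_le_of_card_ge hP (by rw [sylow_card hG hm hpm P, Nat.card_zpowers, hx])).symm⟩

/-- All elements of order five are conjugate. -/
theorem conj_five (L : Local G) {y y' : G} (hy : orderOf y = 5) (hy' : orderOf y' = 5) : IsConj y y' := by
  haveI : Fact (Nat.Prime 5) := ⟨by norm_num⟩
  obtain ⟨P, hP⟩ := zpowers_sylow L.card (m := 48964608) (by norm_num) (by norm_num) hy
  obtain ⟨P', hP'⟩ := zpowers_sylow L.card (m := 48964608) (by norm_num) (by norm_num) hy'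
  obtain ⟨g, hg⟩ := MulAction.exists_smul_eq G P P'
  have hmem : g * y * g⁻¹ ∈ Subgroup.zpowers y' := by
    rw [← hP', ← hg, Sylow.coe_subgroup_smul]
    exact Subgroup.smul_mem_pointwise_smul _ (MulAut.conj g) _ (hP ▸ Subgroup.mem_zpowers y)
  obtain ⟨k, hk⟩ : ∃ k : ℕ, y' ^ k = g * y * g⁻¹ := mem_powers_iff_mem_zpowers.2 hmem
  have hc : IsConj y (y' ^ k) := isConj_iff.2 ⟨g, hk.symm⟩
  rw [← pow_mod_orderOf, hy'] at hc
  have hlt : k % 5 < 5 := Nat.mod_lt _ (by norm_num)
  have ho : ∀ w : G, orderOf w = 5 → orderOf (w ^ 2) = 5 := fun w hw => by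
    rw [orderOf_pow, hw]; norm_num
  have h1 := L.conj5 y' hy'
  have h2 := L.conj5 _ (ho _ hy')
  have h3 := L.conj5 _ (ho _ (ho _ hy'))
  rw [← pow_mul] at h2 h3
  rw [← pow_mul, show y' ^ (2 * 2 * 2) = y' ^ 3 by
    rw [← pow_mod_orderOf, hy']] at h3
  interval_cases k % 5
  · exfalso
    rw [pow_zero, isConj_one_left] at hc
    rw [hc, orderOf_one] at hy
    norm_num at hy
  · simpa using hc
  · exact hc.trans h1.symm
  · exact hc.trans ((h1.trans (h2.trans h3)).symm)
  · exact hc.trans ((h1.trans h2).symm)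

section Values

variable (L : Local G) {χ : IrrCharacter G} (hd : charDegree (χ : G → ℂ) = 23)
include L hd

theorem value_one : (χ : G → ℂ) 1 = 23 := by
  rw [charDeg_spec', hd]; norm_num

theorem value_z {z : G} (hz : orderOf z = 23) : (χ : G → ℂ) z = 0 := by
  haveI : Fact (Nat.Prime 23) := ⟨by norm_num⟩
  obtain ⟨M, hM⟩ := exists_isPModular 23 (by norm_num)
  refine defectZero_vanish hM χ ?_ (by rw [hz])
  rw [hd, fact_of_card L.card (m := 10644480) (by norm_num) (by norm_num),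
    Nat.Prime.factorization_self (by norm_num)]

theorem value_x {x : G} (hx : orderOf x = 11) : (χ : G → ℂ) x = 1 := by
  classical
  cases nonempty_fintype G
  haveI : Fact (Nat.Prime 11) := ⟨by norm_num⟩
  obtain ⟨P, hP⟩ := zpowers_sylow L.card (m := 22256640) (by norm_num) (by norm_num) hx
  have hconj := conj_pow_of_card (c := 1) hx ((L.cent11 x hx).trans (mul_one _).symm) (by rw [← hP, L.norm11 P])
  have hval : ∀ k : ℕ, k.Coprime 11 → (χ : G → ℂ) (x ^ k) = (χ : G → ℂ) x := fun k hk => by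
    obtain ⟨g, hg⟩ := isConj_iff.1 (hconj k hk)
    rw [← hg]
    exact irr_classFun χ x g
  obtain ⟨v, hv⟩ := IsChar.exists_int_of_fixed (irr_isChar χ) x fun k hk => hval k (hx ▸ hk)
  obtain ⟨n, ρ, -, hρχ, -, -⟩ := IsIrr.exists_rep χ.2
  have hsum := fixSpace_zpowers ρ x
  rw [hρχ, hx, Finset.sum_range_succ', pow_zero, value_one L hd,
    Finset.sum_congr rfl fun i hi => by
      rw [hval (i + 1) ((Nat.Prime.coprime_iff_not_dvd (by norm_num)).2 (fun h => by
        have := Finset.mem_range.1 hi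
        have := Nat.le_of_dvd (by omega) h
        omega)).symm, hv],
    Finset.sum_const, Finset.card_range] at hsum
  set d := Module.finrank ℂ (fixSpace ρ (Subgroup.zpowers x)) with hd'
  have hsum' : 10 * v + 23 = 11 * (d : ℤ) := by
    have h : ((10 * v + 23 : ℤ) : ℂ) = ((11 * (d : ℤ) : ℤ) : ℂ) := by
      rw [nsmul_eq_mul] at hsum
      push_cast at hsum ⊢
      exact hsum
    exact_mod_cast h
  have hcol := sum_irr_mul_conj (G := G) x x
  rw [if_pos (IsConj.refl x), L.cent11 x hx] at hcol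
  have hre : (∑ ξ : IrrCharacter G, Complex.normSq ((ξ : G → ℂ) x)) = (11 : ℝ) := by
    have h := congrArg Complex.re hcol
    rw [Complex.re_sum] at h
    simpa [Complex.mul_conj] using h
  have hle : Complex.normSq ((χ : G → ℂ) x) ≤ 11 := by
    rw [← hre]
    exact Finset.single_le_sum (f := fun ξ : IrrCharacter G => Complex.normSq ((ξ : G → ℂ) x))
      (fun ξ _ => Complex.normSq_nonneg _) (Finset.mem_univ χ)
  rw [hv, Complex.normSq_intCast] at hle
  have hle' : v * v ≤ 11 := by exact_mod_cast hle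
  have h1 : -3 ≤ v := by nlinarith
  have h2 : v ≤ 3 := by nlinarith
  have hv1 : v = 1 := by omega
  rw [hv, hv1, Int.cast_one]

theorem value_y {y : G} (hy : orderOf y = 5) :
    ∃ v : ℤ, ∀ g : G, orderOf g = 5 → (χ : G → ℂ) g = v := by
  have hc : ∀ g : G, orderOf g = 5 → (χ : G → ℂ) g = (χ : G → ℂ) y := fun g hg => by
    obtain ⟨t, ht⟩ := isConj_iff.1 (conj_five L hy hg)
    rw [← ht]
    exact irr_classFun χ y t
  obtain ⟨v, hv⟩ := IsChar.exists_int_of_fixed (irr_isChar χ) y fun k hk => hc _ (by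
    rw [orderOf_pow, Nat.Coprime.gcd_eq_one hk.symm, Nat.div_one, hy])
  exact ⟨v, fun g hg => by rw [hc g hg, hv]⟩

end Values

variable [IsSimpleGroup G]

theorem exists_index_twentyfour (L : Local G) {χ : IrrCharacter G}
    (hd : charDegree (χ : G → ℂ) = 23) : ∃ H : Subgroup G, H.index = 24 := by
  classical
  cases nonempty_fintype G
  haveI : Fact (Nat.Prime 23) := ⟨by norm_num⟩
  haveI : Fact (Nat.Prime 11) := ⟨by norm_num⟩
  haveI : Fact (Nat.Prime 5) := ⟨by norm_num⟩
  obtain ⟨P⟩ : Nonempty (Sylow 23 G) := inferInstance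
  have hPc := sylow_card L.card (m := 10644480) (by norm_num) (by norm_num) P
  obtain ⟨z', hz'⟩ := exists_prime_orderOf_dvd_card' (G := (P : Subgroup G)) 23 (by rw [hPc])
  set z : G := (z' : G) with hz_def
  have hz : orderOf z = 23 := by rw [hz_def, Subgroup.orderOf_coe, hz']
  have hPz : (P : Subgroup G) = Subgroup.zpowers z :=
    (Subgroup.eq_of_le_of_card_ge (Subgroup.zpowers_le.2 z'.2) (by rw [hPc, Nat.card_zpowers, hz])).symm
  have hN23 := L.norm23 P
  obtain ⟨x', hx'⟩ := exists_prime_orderOf_dvd_card'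
    (G := Subgroup.normalizer ((P : Subgroup G) : Set G)) 11 (by rw [hN23]; norm_num)
  set x : G := (x' : G) with hx_def
  have hx : orderOf x = 11 := by rw [hx_def, Subgroup.orderOf_coe, hx']
  have hxz : x ∈ Subgroup.normalizer ((Subgroup.zpowers z : Subgroup G) : Set G) := hPz ▸ x'.2
  obtain ⟨Q, hQ⟩ := zpowers_sylow L.card (m := 22256640) (by norm_num) (by norm_num) hx
  have hN11 := L.norm11 Q
  obtain ⟨y', hy'⟩ := exists_prime_orderOf_dvd_card'
    (G := Subgroup.normalizer ((Q : Subgroup G) : Set G)) 5 (by rw [hN11]; norm_num)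
  set y : G := (y' : G) with hy_def
  have hy : orderOf y = 5 := by rw [hy_def, Subgroup.orderOf_coe, hy']
  have hyx : y ∈ Subgroup.normalizer ((Subgroup.zpowers x : Subgroup G) : Set G) := hQ ▸ y'.2
  obtain ⟨n, ρ, -, hρχ, hn, -⟩ := IsIrr.exists_rep χ.2
  obtain ⟨v, hv⟩ := value_y L hd hy
  obtain ⟨F, hzF, hxF, hFc, hFs⟩ := sum_pair (p := 23) (q := 11) (by norm_num) L.cent23 hz hx hxz
    (χ : G → ℂ) (fun g hg => value_z L hd hg) fun g hg => value_x L hd hg
  obtain ⟨R, hxR, hyR, hRc, hRs⟩ := sum_pair (p := 11) (q := 5) (by norm_num) L.cent11 hx hy hyx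
    (χ : G → ℂ) (fun g hg => value_x L hd hg) hv
  letI := Fintype.ofFinite F
  letI := Fintype.ofFinite R
  letI := Fintype.ofFinite (Subgroup.zpowers x)
  have hdF : Module.finrank ℂ (fixSpace ρ F) = 1 := by
    have h := fixSpace_sum ρ F
    rw [hρχ, hFs, hFc, value_one L hd] at h
    apply Nat.cast_injective (R := ℂ)
    push_cast at h ⊢
    linear_combination -(1 / 253 : ℂ) * h
  have hdx : Module.finrank ℂ (fixSpace ρ (Subgroup.zpowers x)) = 3 := by
    have h := fixSpace_zpowers ρ x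
    rw [hρχ, hx, Finset.sum_range_succ', pow_zero, value_one L hd,
      Finset.sum_congr rfl fun i hi => value_x L hd (x := x ^ (i + 1)) (by
        rw [orderOf_pow' _ (by omega), hx, Nat.Coprime.gcd_eq_one ((Nat.Prime.coprime_iff_not_dvd
          (by norm_num)).2 fun hd' => by
            have := Finset.mem_range.1 hi
            have := Nat.le_of_dvd (by omega) hd'
            omega)]),
      Finset.sum_const, Finset.card_range] at h
    apply Nat.cast_injective (R := ℂ)
    rw [nsmul_eq_mul, mul_one] at h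
    push_cast at h ⊢
    linear_combination -(1 / 11 : ℂ) * h
  have hmono : fixSpace ρ R ≤ fixSpace ρ (Subgroup.zpowers x) := fun w hw =>
    mem_fixSpace.2 fun g hg => mem_fixSpace.1 hw g (Subgroup.zpowers_le.2 hxR hg)
  have hdR : Module.finrank ℂ (fixSpace ρ R) = 3 := by
    have h := fixSpace_sum ρ R
    rw [hρχ, hRs, hRc, value_one L hd] at h
    have hle := Submodule.finrank_mono hmono
    rw [hdx] at hle
    set d := Module.finrank ℂ (fixSpace ρ R) with hd'
    have h' : ((33 + 44 * v : ℤ) : ℂ) = ((55 * (d : ℤ) : ℤ) : ℂ) := by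
      push_cast at h ⊢
      linear_combination h
    have h'' : 33 + 44 * v = 55 * (d : ℤ) := by exact_mod_cast h'
    omega
  have hFx : fixSpace ρ F ≤ fixSpace ρ R := by
    rw [Submodule.eq_of_le_of_finrank_eq hmono (by rw [hdR, hdx])]
    exact fun w hw => mem_fixSpace.2 fun g hg => mem_fixSpace.1 hw g (Subgroup.zpowers_le.2 hxF hg)
  obtain ⟨w, hwF, hw0⟩ : ∃ w ∈ fixSpace ρ F, w ≠ 0 := Submodule.exists_mem_ne_zero_of_ne_bot fun e => by
    rw [e, finrank_bot] at hdF
    exact zero_ne_one hdF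
  let K : Subgroup G :=
    { carrier := {g | ρ g w = w}
      one_mem' := by simp
      mul_mem' := fun {a b} ha hb => by
        show ρ (a * b) w = w
        rw [map_mul, Module.End.mul_apply, (hb : ρ b w = w), (ha : ρ a w = w)]
      inv_mem' := fun {a} ha => by
        show ρ a⁻¹ w = w
        conv_lhs => rw [← (ha : ρ a w = w)]
        rw [← Module.End.mul_apply, ← map_mul, inv_mul_cancel, map_one, Module.End.one_apply] }
  have hFK : F ≤ K := fun g hg => mem_fixSpace.1 hwF g hg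
  have hRK : R ≤ K := fun g hg => mem_fixSpace.1 (hFx hwF) g hg
  have hKne : K.index ≠ 1 := by
    intro hK
    rw [Subgroup.index_eq_one] at hK
    have hne : (χ : G → ℂ) ≠ (trivialIrr G : G → ℂ) := fun e => by
      have h1 := value_one L hd
      rw [e] at h1
      simp [trivialIrr] at h1
    have h0 := classInner_irr_ne χ.2 (trivialIrr G).2 hne
    simp only [classInner, trivialIrr, map_one, mul_one] at h0
    letI := Fintype.ofFinite (⊤ : Subgroup G)
    have h := fixSpace_sum ρ (⊤ : Subgroup G)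
    rw [hρχ, Fintype.sum_equiv Subgroup.topEquiv.toEquiv (fun h : (⊤ : Subgroup G) => (χ : G → ℂ) h)
      (fun g => (χ : G → ℂ) g) fun _ => rfl] at h
    have hz0 : ∑ g : G, (χ : G → ℂ) g = 0 := by
      rcases mul_eq_zero.1 h0 with e | e
      · simp [Nat.card_eq_fintype_card] at e
      · exact e
    rw [hz0, eq_comm, mul_eq_zero] at h
    rcases h with e | e
    · exact absurd (Nat.cast_eq_zero.1 e) Nat.card_pos.ne'
    · rw [Nat.cast_eq_zero, Submodule.finrank_eq_zero] at e
      exact hw0 ((Submodule.mem_bot ℂ).1 (e ▸ mem_fixSpace.2 fun g _ => (hK ▸ Subgroup.mem_top g : g ∈ K)))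
  refine ⟨K, ?_⟩
  have hmul := Subgroup.card_mul_index K
  rw [L.card] at hmul
  have h1265 : 1265 ∣ Nat.card K := by
    have h1 := hFc ▸ Subgroup.card_dvd_of_le hFK
    have h2 := hRc ▸ Subgroup.card_dvd_of_le hRK
    exact (Nat.Coprime.mul_dvd_of_dvd_of_dvd (by norm_num : Nat.Coprime 23 55)
        (dvd_trans (by norm_num) h1) h2)
  -- the Sylow counts at twenty-three and eleven
  have hcount : ∀ {p : ℕ} [Fact p.Prime] (S : Sylow p G) (hS : (S : Subgroup G) ≤ K) (b : ℕ),
      Nat.card (Subgroup.normalizer ((S : Subgroup G) : Set G) ⊓ K : Subgroup G) = b →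
      ∃ t, t * b = Nat.card K ∧ t % p = 1 := by
    intro p hp S hS b hb
    refine ⟨Nat.card (Sylow p K), ?_, ?_⟩
    · rw [(S.subtype hS).card_eq_index_normalizer, ← hb,
        ← Subgroup.index_mul_card (Subgroup.normalizer ((S.subtype hS : Subgroup K) : Set K))]
      congr 1
      rw [← Subgroup.card_map_of_injective K.subtype_injective]
      congr 1
      refine congrArg (fun T : Subgroup G => (T : Type u)) ?_
      ext g
      simp only [Subgroup.mem_map, Subgroup.mem_inf, Sylow.coe_subtype, Subgroup.coe_subtype]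
      constructor
      · rintro ⟨hg, hgK⟩
        refine ⟨⟨g, hgK⟩, Subgroup.mem_normalizer_iff.2 fun t => ?_, rfl⟩
        simp only [Subgroup.mem_subgroupOf]
        exact Subgroup.mem_normalizer_iff.1 hg t
      · rintro ⟨k, hk, rfl⟩
        refine ⟨Subgroup.mem_normalizer_iff.2 fun t => ⟨fun ht => ?_, fun ht => ?_⟩, k.2⟩
        · have := (Subgroup.mem_normalizer_iff.1 hk ⟨t, hS ht⟩).1 (by simpa [Subgroup.mem_subgroupOf] using ht)
          simpa [Subgroup.mem_subgroupOf] using this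
        · have htK : t ∈ K := by
            have := mul_mem (mul_mem (inv_mem k.2) (hS ht)) k.2
            simpa [mul_assoc] using this
          have := (Subgroup.mem_normalizer_iff.1 hk ⟨t, htK⟩).2 (by simpa [Subgroup.mem_subgroupOf] using ht)
          simpa [Subgroup.mem_subgroupOf] using this
    · have := card_sylow_modEq_one p K
      rwa [Nat.ModEq, Nat.one_mod_eq_one.2 hp.out.ne_one] at this
  obtain ⟨t, ht, htm⟩ := hcount P (hPz ▸ Subgroup.zpowers_le.2 (hFK hzF)) 253 (by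
    refine Nat.dvd_antisymm (hN23 ▸ Subgroup.card_dvd_of_le inf_le_left) ((show 23 * 11 = 253 by norm_num) ▸ hFc ▸ Subgroup.card_dvd_of_le (?_ : F ≤ _))
    refine le_inf ?_ hFK
    have hz' : z ∈ Subgroup.normalizer ((P : Subgroup G) : Set G) :=
      hPz ▸ Subgroup.le_normalizer (Subgroup.mem_zpowers z)
    have hF : Subgroup.zpowers z ⊔ Subgroup.zpowers x ≤ Subgroup.normalizer ((P : Subgroup G) : Set G) :=
      sup_le (Subgroup.zpowers_le.2 hz') (Subgroup.zpowers_le.2 x'.2)
    have hFeq : Subgroup.zpowers z ⊔ Subgroup.zpowers x = F := by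
      refine Subgroup.eq_of_le_of_card_ge (sup_le (Subgroup.zpowers_le.2 hzF) (Subgroup.zpowers_le.2 hxF)) ?_
      rw [hFc]
      refine Nat.le_of_dvd Nat.card_pos (Nat.Coprime.mul_dvd_of_dvd_of_dvd (by norm_num) ?_ ?_)
      · have := Subgroup.card_dvd_of_le (le_sup_left : Subgroup.zpowers z ≤ Subgroup.zpowers z ⊔ Subgroup.zpowers x)
        rwa [Nat.card_zpowers, hz] at this
      · have := Subgroup.card_dvd_of_le (le_sup_right : Subgroup.zpowers x ≤ Subgroup.zpowers z ⊔ Subgroup.zpowers x)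
        rwa [Nat.card_zpowers, hx] at this
    exact hFeq ▸ hF)
  obtain ⟨b, hb, hbc⟩ : ∃ b, (b = 55 ∨ b = 110) ∧
      Nat.card (Subgroup.normalizer ((Q : Subgroup G) : Set G) ⊓ K : Subgroup G) = b := by
    refine ⟨_, ?_, rfl⟩
    have h1 := hN11 ▸ Subgroup.card_dvd_of_le
      (inf_le_left : Subgroup.normalizer ((Q : Subgroup G) : Set G) ⊓ K ≤ _)
    have hxN : x ∈ Subgroup.normalizer ((Q : Subgroup G) : Set G) ⊓ K :=
      ⟨hQ ▸ Subgroup.le_normalizer (Subgroup.mem_zpowers x), hRK hxR⟩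
    have hyN : y ∈ Subgroup.normalizer ((Q : Subgroup G) : Set G) ⊓ K := ⟨y'.2, hRK hyR⟩
    have h2 := Subgroup.orderOf_dvd_natCard _ hxN
    have h3 := Subgroup.orderOf_dvd_natCard _ hyN
    rw [hx] at h2
    rw [hy] at h3
    obtain ⟨k, hk⟩ := Nat.Coprime.mul_dvd_of_dvd_of_dvd (by norm_num : Nat.Coprime 11 5) h2 h3
    rw [hk] at h1 ⊢
    rcases (Nat.dvd_prime Nat.prime_two).1 (Nat.dvd_of_mul_dvd_mul_left (by norm_num : 0 < 55)
      (show 55 * k ∣ 55 * 2 from h1)) with rfl | rfl <;> norm_num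
  obtain ⟨t', ht', htm'⟩ := hcount Q (hQ ▸ Subgroup.zpowers_le.2 (hRK hxR)) b hbc
  obtain ⟨m, hm⟩ : ∃ m, m = K.index := ⟨_, rfl⟩
  rw [← hm] at hmul hKne ⊢
  have hdvd : m ∣ 2 ^ 10 * 3 ^ 3 * 7 ^ 1 := by
    obtain ⟨c, hc⟩ := h1265
    refine Dvd.intro_left c ?_
    rw [hc] at hmul
    norm_num
    linarith
  have hm23 : m % 23 = 1 := by
    have h1 : (t * m) % 23 = 1 := by
      have : t * m = 967680 := by
        refine Nat.eq_of_mul_eq_mul_left (by norm_num : 0 < 253) ?_
        calc 253 * (t * m) = t * 253 * m := by ring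
          _ = 244823040 := by rw [ht, hmul]
      rw [this]
    rw [Nat.mul_mod, htm, one_mul, Nat.mod_mod] at h1
    exact h1
  have hm11 : m % 11 = 1 ∨ m % 11 = 2 := by
    have h1 : (t' * m) % 11 = 1 ∨ (t' * m) % 11 = 2 := by
      rcases hb with rfl | rfl
      · refine .inr ?_
        have : t' * m = 4451328 := by
          refine Nat.eq_of_mul_eq_mul_left (by norm_num : 0 < 55) ?_
          calc 55 * (t' * m) = t' * 55 * m := by ring
            _ = 244823040 := by rw [ht', hmul]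
        rw [this]
      · refine .inl ?_
        have : t' * m = 2225664 := by
          refine Nat.eq_of_mul_eq_mul_left (by norm_num : 0 < 110) ?_
          calc 110 * (t' * m) = t' * 110 * m := by ring
            _ = 244823040 := by rw [ht', hmul]
        rw [this]
    rw [Nat.mul_mod, htm', one_mul, Nat.mod_mod] at h1
    exact h1
  obtain ⟨m12, m3, h12, h3, rfl⟩ := Nat.dvd_mul.1 hdvd
  obtain ⟨m1, m2, h1, h2, rfl⟩ := Nat.dvd_mul.1 h12
  obtain ⟨a, ha, rfl⟩ := (Nat.dvd_prime_pow Nat.prime_two).1 h1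
  obtain ⟨b', hb', rfl⟩ := (Nat.dvd_prime_pow Nat.prime_three).1 h2
  obtain ⟨c, hc, rfl⟩ := (Nat.dvd_prime_pow (by norm_num : Nat.Prime 7)).1 h3
  exact (index_key ⟨a, by omega⟩ ⟨b', by omega⟩ ⟨c, by omega⟩ hm23 hm11).resolve_left hKne

end Cfsg.Agent.Invol.M24Ord
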