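import Cfsg.Agent.Lib.Invol.Order244823040.Fix
import Cfsg.Agent.Lib.Grp.MathieuOrder.Count
import Mathlib.GroupTheory.GroupAction.MultipleTransitivity

/-!
Twenty-four points: the group is doubly transitive and a point stabilizer is simple of order 10200960.
-/

set_option autoImplicit false
set_option linter.style.haveILetI false
set_option linter.unusedSectionVars false

namespace Cfsg.Agent.Invol.M24Ord

universe u

variable {G : Type u} [Group G] [Finite G] [IsSimpleGroup G]
variable {Ω : Type u} [Fintype Ω] [MulAction G Ω] [MulAction.IsPretransitive G Ω]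

/-- The action on twenty-four points is faithful. -/
theorem faithful (h24 : Fintype.card Ω = 24) : Function.Injective (MulAction.toPermHom G Ω) := by
  classical
  rcases Subgroup.Normal.eq_bot_or_eq_top (MulAction.toPermHom G Ω).normal_ker with hk | hk
  · exact (MonoidHom.ker_eq_bot_iff _).1 hk
  · exfalso
    obtain ⟨x, y, hne⟩ := Fintype.exists_pair_of_one_lt_card (α := Ω) (by rw [h24]; norm_num)
    obtain ⟨g, hg⟩ := MulAction.exists_smul_eq G x y
    refine hne ?_
    rw [← hg]
    exact (Equiv.ext_iff.1 (show MulAction.toPermHom G Ω g = (1 : Equiv.Perm Ω) from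
      MonoidHom.mem_ker.1 (hk.symm ▸ Subgroup.mem_top g : g ∈ (MulAction.toPermHom G Ω).ker)) x).symm

/-- An element of order twenty-three fixes exactly one point and moves the others in a single cycle. -/
theorem fix_twentythree (h24 : Fintype.card Ω = 24) {z : G} (hz : orderOf z = 23) :
    ∃ a : Ω, z • a = a ∧ ∀ x y : Ω, x ≠ a → y ≠ a → ∃ i : ℤ, (z ^ i) • x = y := by
  classical
  haveI : Fact (Nat.Prime 23) := ⟨by norm_num⟩
  set Z := Subgroup.zpowers z with hZ
  have hZc : Nat.card Z = 23 := by rw [hZ, Nat.card_zpowers, hz]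
  have hfx : ∀ x : Ω, x ∈ MulAction.fixedPoints Z Ω ↔ z • x = x := fun x => by
    refine ⟨fun h => h ⟨z, Subgroup.mem_zpowers z⟩, fun h g => ?_⟩
    exact (Subgroup.zpowers_le.2 (show z ∈ MulAction.stabilizer G x from h) g.2 : (g : G) • x = x)
  have hmod := (IsPGroup.of_card (n := 1) (by rw [hZc, pow_one]) : IsPGroup 23 Z).card_modEq_card_fixedPoints Ω
  rw [Nat.card_eq_fintype_card, h24] at hmod
  have hle : Nat.card (MulAction.fixedPoints Z Ω) ≤ 24 := by
    rw [← h24, ← Nat.card_eq_fintype_card]
    exact Nat.card_le_card_of_injective _ Subtype.val_injective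
  have hne : Nat.card (MulAction.fixedPoints Z Ω) ≠ 24 := fun h => by
    have hu : MulAction.fixedPoints Z Ω = Set.univ := Set.eq_of_subset_of_ncard_le (Set.subset_univ _)
      (by rw [Set.ncard_univ, Nat.card_eq_fintype_card, h24, ← Nat.card_coe_set_eq, h])
    have h1 : z = 1 := faithful h24 (by
      rw [map_one]
      ext x
      exact (hfx x).1 (hu ▸ Set.mem_univ x))
    rw [h1, orderOf_one] at hz
    norm_num at hz
  have h1 : Nat.card (MulAction.fixedPoints Z Ω) = 1 := by
    rw [Nat.ModEq] at hmod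
    omega
  rw [Nat.card_coe_set_eq, Set.ncard_eq_one] at h1
  obtain ⟨a, ha⟩ := h1
  refine ⟨a, (hfx a).1 (ha ▸ rfl), fun x y hx hy => ?_⟩
  have horb : MulAction.orbit Z x = {a}ᶜ := by
    refine Set.eq_of_subset_of_ncard_le ?_ ?_
    · rintro _ ⟨g, rfl⟩ e
      refine hx ?_
      have hga : (g : G) • a = a := ((hfx a).2 ((hfx a).1 (ha ▸ rfl))) g
      exact MulAction.injective (g : G) ((Set.mem_singleton_iff.1 e).trans hga.symm)
    · rw [Set.ncard_compl, Set.ncard_singleton, Nat.card_eq_fintype_card, h24]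
      have hd : (MulAction.orbit Z x).ncard ∣ 23 := by
        rw [← MulAction.index_stabilizer, ← hZc]
        exact Subgroup.index_dvd_card _
      rcases (Nat.dvd_prime (by norm_num : Nat.Prime 23)).1 hd with h | h
      · exfalso
        obtain ⟨w, hw⟩ := Set.ncard_eq_one.1 h
        have hxw : x = w := Set.mem_singleton_iff.1 (hw ▸ MulAction.mem_orbit_self x)
        have hz' : z • x = x := by
          have : z • x ∈ MulAction.orbit Z x := ⟨⟨z, Subgroup.mem_zpowers z⟩, rfl⟩
          rw [hw, ← hxw] at this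
          exact Set.mem_singleton_iff.1 this
        exact hx (Set.mem_singleton_iff.1 (ha ▸ (hfx x).2 hz'))
      · rw [h]
  obtain ⟨⟨g, hg⟩, hgy⟩ := (horb ▸ hy : y ∈ MulAction.orbit Z x)
  obtain ⟨i, rfl⟩ := Subgroup.mem_zpowers_iff.1 hg
  exact ⟨i, hgy⟩

/-- Every point is the fixed point of an element of order twenty-three. -/
theorem exists_fix (L : Local G) (h24 : Fintype.card Ω = 24) (a : Ω) :
    ∃ z : G, orderOf z = 23 ∧ z • a = a ∧ ∀ x y : Ω, x ≠ a → y ≠ a → ∃ i : ℤ, (z ^ i) • x = y := by
  haveI : Fact (Nat.Prime 23) := ⟨by norm_num⟩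
  obtain ⟨z, hz⟩ := exists_prime_orderOf_dvd_card' (G := G) 23 (by rw [L.card]; norm_num)
  obtain ⟨b, hb, -⟩ := fix_twentythree h24 hz
  obtain ⟨g, rfl⟩ := MulAction.exists_smul_eq G b a
  have hz' : orderOf (g * z * g⁻¹) = 23 := by
    rw [← hz]
    exact orderOf_injective (MulAut.conj g).toMonoidHom (MulAut.conj g).injective z
  obtain ⟨c, hc, hall⟩ := fix_twentythree (Ω := Ω) h24 hz'
  have hgb : (g * z * g⁻¹) • g • b = g • b := by rw [mul_smul, inv_smul_smul, mul_smul, hb]
  have hcb : c = g • b := by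
    by_contra hne
    obtain ⟨w, hw⟩ : ∃ w : Ω, w ≠ c ∧ w ≠ g • b := by
      classical
      obtain ⟨w, -, hw⟩ := Finset.exists_mem_notMem_of_card_lt_card (s := ({c, g • b} : Finset Ω))
        (t := Finset.univ) (by rw [Finset.card_univ, h24]; exact lt_of_le_of_lt Finset.card_le_two (by norm_num))
      exact ⟨w, by simpa [not_or] using hw⟩
    obtain ⟨i, hi⟩ := hall (g • b) w (fun e => hne e.symm) hw.1
    refine hw.2 ?_
    rw [← hi]
    exact Subgroup.zpow_mem (MulAction.stabilizer G (g • b)) (show _ ∈ MulAction.stabilizer G (g • b) from hgb) i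
  subst hcb
  exact ⟨_, hz', hgb, hall⟩

theorem card_stab (L : Local G) (h24 : Fintype.card Ω = 24) (a : Ω) :
    Nat.card (MulAction.stabilizer G a) = 10200960 := by
  have h := Subgroup.card_mul_index (MulAction.stabilizer G a)
  rw [MulAction.index_stabilizer_of_transitive, Nat.card_eq_fintype_card (α := Ω), h24, L.card] at h
  omega

/-- A point stabilizer is transitive on the remaining points. -/
theorem stab_pretransitive (L : Local G) (h24 : Fintype.card Ω = 24) (a : Ω) :
    MulAction.IsPretransitive (MulAction.stabilizer G a) (SubMulAction.ofStabilizer G a) := by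
  obtain ⟨z, -, hza, hall⟩ := exists_fix L h24 a
  refine ⟨fun x y => ?_⟩
  obtain ⟨i, hi⟩ := hall x y x.2 y.2
  exact ⟨⟨z ^ i, Subgroup.zpow_mem _ (show z ∈ MulAction.stabilizer G a from hza) i⟩, Subtype.ext hi⟩

theorem card_compl (h24 : Fintype.card Ω = 24) (a : Ω) [Fintype (SubMulAction.ofStabilizer G a)] :
    Fintype.card (SubMulAction.ofStabilizer G a) = 23 := by
  rw [← Nat.card_eq_fintype_card, SubMulAction.nat_card_ofStabilizer_eq, Nat.card_eq_fintype_card, h24]

/-- A point stabilizer is simple. -/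
theorem stab_simple (L : Local G) (h24 : Fintype.card Ω = 24) (a : Ω) :
    IsSimpleGroup (MulAction.stabilizer G a) := by
  haveI : Fact (Nat.Prime 23) := ⟨by norm_num⟩
  have hH : Nat.card (MulAction.stabilizer G a) = 23 * 443520 := (card_stab L h24 a).trans (by norm_num)
  have hself : ∀ x g : MulAction.stabilizer G a, orderOf x = 23 → g * x = x * g → g ∈ Subgroup.zpowers x := by
    intro x g hx hgx
    rw [← Subgroup.orderOf_coe] at hx
    have hle : Subgroup.zpowers (x : G) ≤ Subgroup.centralizer ({(x : G)} : Set G) :=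
      Subgroup.zpowers_le.2 (Subgroup.mem_centralizer_singleton_iff.2 rfl)
    have he := Subgroup.eq_of_le_of_card_ge hle (by rw [L.cent23 _ hx, Nat.card_zpowers, hx])
    have hg : (g : G) ∈ Subgroup.centralizer ({(x : G)} : Set G) :=
      Subgroup.mem_centralizer_singleton_iff.2 (congrArg Subtype.val hgx)
    rw [← he] at hg
    obtain ⟨i, hi⟩ := Subgroup.mem_zpowers_iff.1 hg
    exact Subgroup.mem_zpowers_iff.2 ⟨i, Subtype.ext (by rw [← hi]; rfl)⟩
  refine Grp.MathieuOrder.simple_of_count (e := 11) (by norm_num) hH (by norm_num)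
    (Grp.MathieuOrder.sylow_count hH (by norm_num) hself (by decide +kernel)) (q₀ := 7) (by norm_num)
    (by norm_num) (by norm_num) fun q hq k hk hmod =>
    Grp.MathieuOrder.pow_check (l := [(2, 7), (3, 2), (5, 1), (7, 1), (11, 1)]) hq hk hmod (by norm_num) (by decide)

end Cfsg.Agent.Invol.M24Ord
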