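import Cfsg.Agent.Lib.Invol.Order244823040.Block23
import Cfsg.Agent.Lib.Invol.Order244823040.Point

/-!
Twenty-four points with a point stabilizer of the order of the Mathieu group of degree twenty-three: five-fold
transitivity and the Steiner system S(5, 8, 24).
-/

set_option autoImplicit false
set_option linter.style.haveILetI false
set_option linter.unusedSectionVars false

namespace Cfsg.Agent.Invol.M24Ord

open Cfsg Cfsg.Agent.Invol.M23Ord
open scoped Pointwise

universe u

section Stab

variable {H : Type u} [Group H] [Finite H] [IsSimpleGroup H] {Ω' : Type u} [Fintype Ω'] [MulAction H Ω']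

/-- The stabilizer of four points of the block has order forty-eight and normalizes the subgroup of order sixteen. -/
theorem stab_four (W : M23Ord.Blk H Ω') (hG : Nat.card H = 10200960) {p : Fin 4 ↪ Ω'} (hp : ∀ i, p i ∈ W.F) :
    Nat.card (MulAction.stabilizer H p) = 48 ∧ MulAction.stabilizer H p ≤ W.B.N := by
  classical
  haveI : Fact (Nat.Prime 2) := ⟨Nat.prime_two⟩
  set L := MulAction.stabilizer H p with hL
  have hLc : Nat.card L = 48 := by
    have h := W.card_stab (W.four_trans hG) p
    rw [← hL, hG, show Nat.descFactorial 23 4 = 212520 from rfl] at h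
    omega
  have hstab : MulAction.stabilizer W.B.N p = L.subgroupOf W.B.N := rfl
  have hLN : L ≤ W.B.N := by
    set O : Finset (Fin 4 ↪ Ω') := Finset.univ.filter fun q => ∀ i, q i ∈ W.F with hO
    have horb : MulAction.orbit W.B.N p = (O : Set (Fin 4 ↪ Ω')) := by
      ext q
      simp only [hO, Finset.coe_filter, Finset.mem_univ, true_and, Set.mem_ofPred_eq]
      constructor
      · rintro ⟨n, rfl⟩ i
        exact W.stable n n.2 _ (hp i)
      · intro hq
        obtain ⟨n, hn, he⟩ := W.multi 4 (by norm_num) p q hp hq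
        exact ⟨⟨n, hn⟩, he⟩
    have hOc : O.card = 840 := by
      let e : {q : Fin 4 ↪ Ω' // ∀ i, q i ∈ W.F} ≃ (Fin 4 ↪ W.F) :=
        { toFun := fun q => ⟨fun i => ⟨q.1 i, q.2 i⟩, fun i j h => q.1.injective (congrArg Subtype.val h)⟩
          invFun := fun q => ⟨⟨fun i => (q i : Ω'), fun i j h => q.injective (Subtype.ext h)⟩, fun i => (q i).2⟩
          left_inv := fun q => rfl
          right_inv := fun q => rfl }
      rw [hO, ← Fintype.card_subtype, Fintype.card_congr e, Fintype.card_embedding_eq, Fintype.card_coe, W.card7,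
        Fintype.card_fin]
      rfl
    have h := Subgroup.card_mul_index (MulAction.stabilizer W.B.N p)
    have hidx : (MulAction.stabilizer W.B.N p).index = 840 := by
      rw [MulAction.index_stabilizer]
      exact (congrArg Set.ncard horb).trans ((Set.ncard_coe_finset O).trans hOc)
    rw [hidx, W.B.card, hstab, ← Subgroup.inf_subgroupOf_right,
      Nat.card_congr (Subgroup.subgroupOfEquivOfLe inf_le_right).toEquiv] at h
    have he := Subgroup.eq_of_le_of_card_ge (inf_le_left : L ⊓ W.B.N ≤ L) (by omega)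
    exact inf_eq_left.1 he
  exact ⟨hLc, hLN⟩

/-- Another subgroup of order sixteen fixing four points of the block is the given one. -/
theorem sixteen_unique (W : M23Ord.Blk H Ω') (hG : Nat.card H = 10200960) {p : Fin 4 ↪ Ω'}
    (hp : ∀ i, p i ∈ W.F) (E' : Subgroup H) (hE'c : Nat.card E' = 16)
    (hE'L : E' ≤ MulAction.stabilizer H p) : E' = W.B.S.E := by
  classical
  haveI : Fact (Nat.Prime 2) := ⟨Nat.prime_two⟩
  obtain ⟨hLc, hLN⟩ := stab_four W hG hp
  have hfix : W.B.S.E ≤ MulAction.stabilizer H p := fun e he =>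
    Function.Embedding.ext fun i => (W.mem_F _).1 (hp i) e he
  have hp2 : ∀ A : Subgroup H, Nat.card A = 16 → IsPGroup 2 A := fun A hA =>
    IsPGroup.of_card (n := 4) (by rw [hA]; norm_num)
  obtain ⟨n, hn⟩ := (IsPGroup.iff_card).1
    ((hp2 _ hE'c).to_sup_of_normal_right' (hp2 _ W.B.S.card) ((hE'L.trans hLN).trans (le_of_eq W.B.hN)))
  have hd : Nat.card (E' ⊔ W.B.S.E : Subgroup H) ∣ 48 := hLc ▸ Subgroup.card_dvd_of_le (sup_le hE'L hfix)
  have h16 : Nat.card (E' ⊔ W.B.S.E : Subgroup H) = 16 := by
    have h1 := Subgroup.card_dvd_of_le (le_sup_right : W.B.S.E ≤ E' ⊔ W.B.S.E)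
    rw [W.B.S.card, hn] at h1
    rw [hn] at hd ⊢
    exact Nat.dvd_antisymm ((Nat.Coprime.pow_left n (by norm_num : Nat.Coprime 2 3)).dvd_of_dvd_mul_right
      (show 2 ^ n ∣ 16 * 3 from hd)) h1
  have hle : E' ≤ W.B.S.E := le_sup_left.trans
    (Subgroup.eq_of_le_of_card_ge (le_sup_right : W.B.S.E ≤ E' ⊔ W.B.S.E) (by rw [h16, W.B.S.card])).ge
  exact Subgroup.eq_of_le_of_card_ge hle (by rw [hE'c, W.B.S.card])

end Stab

variable {G : Type u} [Group G] [Finite G] {Ω : Type u} [Fintype Ω] [MulAction G Ω] {a : Ω}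
variable [Fintype (SubMulAction.ofStabilizer G a)] [IsSimpleGroup (MulAction.stabilizer G a)]
variable (W : M23Ord.Blk (MulAction.stabilizer G a) (SubMulAction.ofStabilizer G a))

/-- The octad: the fixed point together with the block of seven. -/
noncomputable def oct : Finset Ω := by
  classical
  exact insert a (W.F.map (Function.Embedding.subtype _))

theorem mem_oct {x : Ω} : x ∈ oct W ↔ ∀ e ∈ W.B.S.E, (e : G) • x = x := by
  classical
  rw [oct, Finset.mem_insert, Finset.mem_map]
  constructor
  · rintro (rfl | ⟨y, hy, rfl⟩) e he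
    · exact e.2
    · exact congrArg Subtype.val ((W.mem_F y).1 hy e he)
  · intro h
    by_cases hx : x = a
    · exact Or.inl hx
    · exact Or.inr ⟨⟨x, hx⟩, (W.mem_F _).2 fun e he => Subtype.ext (h e he), rfl⟩

theorem card_oct : (oct W).card = 8 := by
  classical
  rw [oct, Finset.card_insert_of_notMem, Finset.card_map, W.card7]
  rw [Finset.mem_map]
  rintro ⟨y, -, hy⟩
  exact y.2 hy

/-- Five points of the octad lie in no other image of it. -/
theorem oct_unique [DecidableEq Ω] (hH : Nat.card (MulAction.stabilizer G a) = 10200960)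
    {p : Fin 4 ↪ SubMulAction.ofStabilizer G a} (hp : ∀ i, p i ∈ W.F) {k : G}
    (hka : a ∈ (oct W).image (k • ·)) (hk : ∀ i, ((p i : SubMulAction.ofStabilizer G a) : Ω) ∈ (oct W).image (k • ·)) :
    (oct W).image (k • ·) = oct W := by
  classical
  set EG := (W.B.S.E.map (MulAction.stabilizer G a).subtype).map (MulAut.conj k).toMonoidHom with hEG
  have hfix : ∀ y ∈ (oct W).image (k • ·), ∀ g ∈ EG, g • y = y := by
    intro y hy g hg
    obtain ⟨x, hx, rfl⟩ := Finset.mem_image.1 hy
    obtain ⟨_, ⟨e, he, rfl⟩, rfl⟩ := hg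
    show (k * (e : G) * k⁻¹) • k • x = k • x
    rw [mul_smul, mul_smul, inv_smul_smul, (mem_oct W).1 hx e he]
  have hle : EG ≤ MulAction.stabilizer G a := fun g hg => hfix a hka g hg
  have hmap : (EG.comap (MulAction.stabilizer G a).subtype).map (MulAction.stabilizer G a).subtype = EG :=
    Subgroup.map_comap_eq_self (by rwa [Subgroup.range_subtype])
  have hc : Nat.card (EG.comap (MulAction.stabilizer G a).subtype) = 16 := by
    rw [← Subgroup.card_map_of_injective (MulAction.stabilizer G a).subtype_injective, hmap, hEG,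
      Subgroup.card_map_of_injective (MulAut.conj k).injective,
      Subgroup.card_map_of_injective (MulAction.stabilizer G a).subtype_injective, W.B.S.card]
  have hEe := sixteen_unique W hH hp _ hc fun g hg =>
    Function.Embedding.ext fun i => Subtype.ext (hfix _ (hk i) g hg)
  refine Finset.eq_of_subset_of_card_le (fun y hy => (mem_oct W).2 fun e he => ?_) ?_
  · rw [← hEe] at he
    exact hfix y hy e he
  · rw [Finset.card_image_of_injective _ (MulAction.injective k)]

variable [MulAction.IsPretransitive G Ω]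

include W in
theorem five_trans (hH : Nat.card (MulAction.stabilizer G a) = 10200960) :
    MulAction.IsMultiplyPretransitive G Ω 5 := by
  haveI : MulAction.IsMultiplyPretransitive (MulAction.stabilizer G a) (SubMulAction.ofStabilizer G a) 4 :=
    W.four_trans hH
  exact (SubMulAction.ofStabilizer.isMultiplyPretransitive (a := a)).2 inferInstance

/-- The images of the octad form a Steiner system. -/
theorem steiner [DecidableEq Ω] (hH : Nat.card (MulAction.stabilizer G a) = 10200960) :
    IsSteinerSystem 5 8 (Set.range fun g : G => (oct W).image (g • ·)) := by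
  classical
  haveI := five_trans W hH
  obtain ⟨em⟩ : Nonempty (Fin 7 ≃ W.F) := ⟨(Fintype.equivFinOfCardEq (by rw [Fintype.card_coe, W.card7])).symm⟩
  let p₀ : Fin 4 ↪ SubMulAction.ofStabilizer G a :=
    ⟨fun i => (em (Fin.castLE (by norm_num) i) : SubMulAction.ofStabilizer G a), fun i j h =>
      Fin.castLE_injective _ (em.injective (Subtype.ext h))⟩
  have hp₀ : ∀ i, p₀ i ∈ W.F := fun i => (em _).2
  let q₀ : Fin 5 ↪ Ω := SubMulAction.ofStabilizer.snoc p₀
  have hq₀ : ∀ i, q₀ i ∈ oct W := by
    intro i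
    rw [mem_oct]
    intro e he
    refine Fin.lastCases ?_ (fun j => ?_) i
    · rw [show q₀ (Fin.last 4) = a from SubMulAction.ofStabilizer.snoc_last p₀]
      exact e.2
    · rw [show q₀ j.castSucc = p₀ j from SubMulAction.ofStabilizer.snoc_castSucc p₀ j]
      exact congrArg Subtype.val ((W.mem_F _).1 (hp₀ j) e he)
  refine ⟨?_, fun s hs => ?_⟩
  · rintro _ ⟨g, rfl⟩
    rw [Finset.card_image_of_injective _ (MulAction.injective g), card_oct]
  obtain ⟨es⟩ : Nonempty (Fin 5 ≃ s) := ⟨(Fintype.equivFinOfCardEq (by rw [Fintype.card_coe, hs])).symm⟩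
  let ps : Fin 5 ↪ Ω := ⟨fun i => (es i : Ω), fun i j h => es.injective (Subtype.ext h)⟩
  obtain ⟨g, hg⟩ := MulAction.exists_smul_eq G q₀ ps
  have hgi : ∀ i, g • q₀ i = (es i : Ω) := fun i => DFunLike.congr_fun hg i
  refine ⟨(oct W).image (g • ·), ⟨⟨g, rfl⟩, fun x hx => ?_⟩, ?_⟩
  · obtain ⟨i, hi⟩ := es.surjective ⟨x, hx⟩
    exact Finset.mem_image.2 ⟨q₀ i, hq₀ i, by rw [hgi, hi]⟩
  · rintro _ ⟨⟨h, rfl⟩, hsh⟩
    have hcomp : (oct W).image ((g⁻¹ * h) • ·) = ((oct W).image (h • ·)).image (g⁻¹ • ·) := by
      rw [Finset.image_image]; exact Finset.image_congr fun x _ => mul_smul _ _ _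
    have hmem : ∀ i, q₀ i ∈ (oct W).image ((g⁻¹ * h) • ·) := fun i => by
      rw [hcomp]
      exact Finset.mem_image.2 ⟨_, hsh (es i).2, by rw [← hgi, inv_smul_smul]⟩
    have hu := oct_unique W hH hp₀ (k := g⁻¹ * h)
      (by have := hmem (Fin.last 4); rwa [show q₀ (Fin.last 4) = a from SubMulAction.ofStabilizer.snoc_last p₀] at this)
      (fun i => by
        have := hmem i.castSucc
        rwa [show q₀ i.castSucc = p₀ i from SubMulAction.ofStabilizer.snoc_castSucc p₀ i] at this)
    rw [hcomp] at hu
    show (oct W).image (h • ·) = (oct W).image (g • ·)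
    conv_rhs => rw [← hu, Finset.image_image]
    symm
    refine (Finset.image_congr fun x _ => ?_).trans (Finset.image_id)
    exact smul_inv_smul g x

end Cfsg.Agent.Invol.M24Ord
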