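import Cfsg.Prelude.Def_Spor_Mathieu
import Cfsg.Agent.Lib.Invol.Order244823040.Steiner
import Cfsg.Agent.Lib.Fus.M24Nse.Base
import Cfsg.Agent.S0412

/-!
A simple group with the local data of the Mathieu group of degree twenty-four and an irreducible character of
degree twenty-three is that group.
-/

set_option autoImplicit false
set_option linter.style.haveILetI false
set_option linter.unusedSectionVars false

namespace Cfsg.Agent.Invol.M24Ord

open Cfsg Cfsg.Agent.Spor Cfsg.Agent.Spor.SteinerCode
open Cfsg.Agent.Invol.M22Ord (PBlk)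
open Cfsg.Agent.Invol.M12Ord (cn dg)

universe u

variable {G : Type u} [Group G] [Finite G] [IsSimpleGroup G]

/-- The order of the normalizer of a Sylow subgroup, from a principal block. -/
theorem norm_of_blk {p e c : ℕ} [Fact p.Prime] (B : PBlk G p e) (hC : Nat.card B.C = p * c) (P : Sylow p G) :
    Nat.card (Subgroup.normalizer ((P : Subgroup G) : Set G)) = e * (p * c) := by
  have h1 : (Subgroup.normalizer ((P : Subgroup G) : Set G)).index =
      (Subgroup.normalizer ((B.P : Subgroup G) : Set G)).index :=
    P.card_eq_index_normalizer.symm.trans B.P.card_eq_index_normalizer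
  have h2 := Subgroup.card_mul_index (Subgroup.normalizer ((P : Subgroup G) : Set G))
  have h3 := Subgroup.card_mul_index (Subgroup.normalizer ((B.P : Subgroup G) : Set G))
  rw [h1, ← h3, B.card_N hC] at h2
  exact Nat.eq_of_mul_eq_mul_right (Nat.pos_of_ne_zero Subgroup.index_ne_zero_of_finite) h2

/-- The local data needed here from those of the counts. -/
theorem local_of_nse (L : Fus.M24Nse.Local G) : Local G := by
  haveI : Fact (Nat.Prime 23) := ⟨by norm_num⟩
  haveI : Fact (Nat.Prime 11) := ⟨by norm_num⟩
  haveI : Fact (Nat.Prime 5) := ⟨by norm_num⟩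
  obtain ⟨A, hA⟩ := Fus.M24Nse.blk23 L.toCounts
  obtain ⟨B, hB⟩ := Fus.M24Nse.blk11 L.toCounts
  refine ⟨L.card, L.c23, fun P => ?_, L.c11, fun P => ?_, fun y hy => ?_⟩
  · rw [norm_of_blk A (c := 1) (hA.trans (mul_one 23).symm) P]
  · rw [norm_of_blk B (c := 1) (hB.trans (mul_one 11).symm) P]
  · obtain ⟨Q, hQ⟩ := zpowers_sylow L.card (m := 48964608) (by norm_num) (by norm_num) hy
    exact conj_pow_of_card (c := 12) hy (L.c5 y hy) (by rw [← hQ, L.n5 Q]) 2 (by norm_num)

/-- The group acts as the automorphism group of a Steiner system S(5, 8, 24). -/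
theorem iso_of_points (L : Local G) {Ω : Type u} [Fintype Ω] [MulAction G Ω] [MulAction.IsPretransitive G Ω]
    (h24 : Fintype.card Ω = 24) : Nonempty (G ≃* Cfsg.M24) := by
  classical
  obtain ⟨a⟩ : Nonempty Ω := Fintype.card_pos_iff.1 (by rw [h24]; norm_num)
  haveI := stab_simple L h24 a
  haveI := stab_pretransitive L h24 a
  letI := Fintype.ofFinite (SubMulAction.ofStabilizer G a)
  have hH := card_stab L h24 a
  obtain ⟨W⟩ := exists_blk (G := MulAction.stabilizer G a) hH (card_compl (G := G) h24 a)
  set B : Set (Finset Ω) := Set.range fun g : G => (oct W).image (g • ·) with hB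
  have hS : IsSteinerSystem 5 8 B := steiner W hH
  let ψ : G →* Equiv.Perm Ω := MulAction.toPermHom G Ω
  have hmove : ∀ (g : G) (b : Finset Ω), b ∈ B → b.image (g • ·) ∈ B := by
    rintro g _ ⟨k, rfl⟩
    exact ⟨g * k, by rw [Finset.image_image]; exact Finset.image_congr fun x _ => mul_smul _ _ _⟩
  have haut : ∀ g, ψ g ∈ setSystemAut B := fun g => SteinerAut.mem_aut.2 fun b => ⟨fun h => by
    have h' := hmove g⁻¹ _ (show b.image (g • ·) ∈ B from h)
    rwa [Finset.image_image, show ((fun x => g⁻¹ • x) ∘ fun x : Ω => g • x) = id from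
      funext fun x => inv_smul_smul g x, Finset.image_id] at h',
    fun h => hmove g b h⟩
  have hbij : Function.Bijective (ψ.codRestrict (setSystemAut B) haut) :=
    Function.Injective.bijective_of_nat_card_le (fun g h e => faithful h24 (congrArg Subtype.val e))
      (by rw [(Cfsg.Agent.S0412.result h24 hS).1.2, L.card])
  obtain ⟨e, he⟩ := exists_equiv824 h24 hS
  exact ⟨(MulEquiv.ofBijective _ hbij).trans
    ((SteinerAut.autEquiv e he).trans (MulEquiv.subgroupCongr Cfsg.Agent.S0369.result.symm))⟩

/-- A character of degree twenty-three identifies the Mathieu group of degree twenty-four. -/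
theorem iso_of_deg23 (L : Fus.M24Nse.Local G) (χ : IrrCharacter G) (h : dg χ = 23) :
    Nonempty (G ≃* Cfsg.M24) := by
  obtain ⟨K, hK⟩ := exists_index_twentyfour (local_of_nse L) (χ := χ) h
  letI : Fintype (G ⧸ K) := Fintype.ofFinite _
  exact iso_of_points (local_of_nse L) (Ω := G ⧸ K)
    (by rw [← Nat.card_eq_fintype_card, ← Subgroup.index_eq_card, hK])

end Cfsg.Agent.Invol.M24Ord
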